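import Cfsg.Agent.Lib.Mult.Ru.CvT0
import Cfsg.Agent.Lib.Mult.Cov
import Cfsg.Agent.Lib.Grp.Ru.Defs

set_option autoImplicit false
set_option maxRecDepth 100000
set_option Elab.async false

namespace Cfsg.Agent.Mult.Ru

open Cfsg.Agent.CG Cfsg.Agent.CG.Ru

noncomputable def cvP : List (List ℕ × List ℕ) := [([54,57,58,59,46,58,57,58,57,58,45,57,58,59,57,47,57,58,56,57,58,57,51,48,44],
  [55,57,58,57,58,59,58,47,57,58,57,58,46,57,58,56,57,45,56,52,51])]
noncomputable def cv0s0 : List (ℕ × ℕ) := [(8192, (Nat.shiftLeft (Nat.sub (Nat.pow 2 8120) 1) 0))]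
noncomputable def cv0s44 : List (ℕ × ℕ) := [(4096, copies 8192 2 cv0m0),
  (2048, copies 8192 2 cv0m1),
  (1024, copies 8192 2 cv0m2),
  (512, copies 8192 2 cv0m3),
  (256, copies 8192 2 cv0m4),
  (128, copies 8192 2 cv0m5),
  (64, copies 8192 2 cv0m6),
  (32, copies 8192 2 cv0m7),
  (16, copies 8192 2 cv0m8),
  (8, copies 8192 2 cv0m9),
  (4, copies 8192 2 cv0m10),
  (2, copies 8192 2 cv0m11),
  (1, copies 8192 2 cv0m12),
  (2, copies 8192 2 cv0m13),
  (4, copies 8192 2 cv0m14),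
  (8, copies 8192 2 cv0m15),
  (16, copies 8192 2 cv0m16),
  (32, copies 8192 2 cv0m17),
  (64, copies 8192 2 cv0m18),
  (128, copies 8192 2 cv0m19),
  (256, copies 8192 2 cv0m20),
  (512, copies 8192 2 cv0m21),
  (1024, copies 8192 2 cv0m22),
  (2048, copies 8192 2 cv0m23),
  (4096, copies 8192 2 cv0m24),
  (8192, cv0m25)]
noncomputable def cv0s45 : List (ℕ × ℕ) := [(4096, copies 8192 2 cv0m26),
  (2048, copies 8192 2 cv0m27),
  (1024, copies 8192 2 cv0m28),
  (512, copies 8192 2 cv0m29),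
  (256, copies 8192 2 cv0m30),
  (128, copies 8192 2 cv0m31),
  (64, copies 8192 2 cv0m32),
  (32, copies 8192 2 cv0m33),
  (16, copies 8192 2 cv0m34),
  (8, copies 8192 2 cv0m35),
  (4, copies 8192 2 cv0m36),
  (2, copies 8192 2 cv0m37),
  (1, copies 8192 2 cv0m38),
  (2, copies 8192 2 cv0m39),
  (4, copies 8192 2 cv0m40),
  (8, copies 8192 2 cv0m41),
  (16, copies 8192 2 cv0m42),
  (32, copies 8192 2 cv0m43),
  (64, copies 8192 2 cv0m44),
  (128, copies 8192 2 cv0m45),
  (256, copies 8192 2 cv0m46),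
  (512, copies 8192 2 cv0m47),
  (1024, copies 8192 2 cv0m48),
  (2048, copies 8192 2 cv0m49),
  (4096, copies 8192 2 cv0m50),
  (8192, cv0m51)]
noncomputable def cv0s46 : List (ℕ × ℕ) := [(8192, cv0m51),
  (4096, copies 8192 2 cv0m50),
  (2048, copies 8192 2 cv0m49),
  (1024, copies 8192 2 cv0m48),
  (512, copies 8192 2 cv0m47),
  (256, copies 8192 2 cv0m46),
  (128, copies 8192 2 cv0m45),
  (64, copies 8192 2 cv0m44),
  (32, copies 8192 2 cv0m43),
  (16, copies 8192 2 cv0m42),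
  (8, copies 8192 2 cv0m41),
  (4, copies 8192 2 cv0m40),
  (2, copies 8192 2 cv0m39),
  (1, copies 8192 2 cv0m38),
  (2, copies 8192 2 cv0m37),
  (4, copies 8192 2 cv0m36),
  (8, copies 8192 2 cv0m35),
  (16, copies 8192 2 cv0m34),
  (32, copies 8192 2 cv0m33),
  (64, copies 8192 2 cv0m32),
  (128, copies 8192 2 cv0m31),
  (256, copies 8192 2 cv0m30),
  (512, copies 8192 2 cv0m29),
  (1024, copies 8192 2 cv0m28),
  (2048, copies 8192 2 cv0m27),
  (4096, copies 8192 2 cv0m26)]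
noncomputable def cv0s47 : List (ℕ × ℕ) := [(4096, copies 8192 2 cv0m52),
  (2048, copies 8192 2 cv0m53),
  (1024, copies 8192 2 cv0m54),
  (512, copies 8192 2 cv0m55),
  (256, copies 8192 2 cv0m56),
  (128, copies 8192 2 cv0m57),
  (64, copies 8192 2 cv0m58),
  (32, copies 8192 2 cv0m59),
  (16, copies 8192 2 cv0m60),
  (8, copies 8192 2 cv0m61),
  (4, copies 8192 2 cv0m62),
  (2, copies 8192 2 cv0m63),
  (1, copies 8192 2 cv0m64),
  (2, copies 8192 2 cv0m65),
  (4, copies 8192 2 cv0m66),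
  (8, copies 8192 2 cv0m67),
  (16, copies 8192 2 cv0m68),
  (32, copies 8192 2 cv0m69),
  (64, copies 8192 2 cv0m70),
  (128, copies 8192 2 cv0m71),
  (256, copies 8192 2 cv0m72),
  (512, copies 8192 2 cv0m73),
  (1024, copies 8192 2 cv0m74),
  (2048, copies 8192 2 cv0m75),
  (4096, copies 8192 2 cv0m76),
  (8192, cv0m77)]
noncomputable def cv0s48 : List (ℕ × ℕ) := [(4096, copies 8192 2 cv0m78),
  (2048, copies 8192 2 cv0m79),
  (1024, copies 8192 2 cv0m80),
  (512, copies 8192 2 cv0m81),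
  (256, copies 8192 2 cv0m82),
  (128, copies 8192 2 cv0m83),
  (64, copies 8192 2 cv0m84),
  (32, copies 8192 2 cv0m85),
  (16, copies 8192 2 cv0m86),
  (8, copies 8192 2 cv0m87),
  (4, copies 8192 2 cv0m88),
  (2, copies 8192 2 cv0m89),
  (1, copies 8192 2 cv0m90),
  (2, copies 8192 2 cv0m91),
  (4, copies 8192 2 cv0m92),
  (8, copies 8192 2 cv0m93),
  (16, copies 8192 2 cv0m94),
  (32, copies 8192 2 cv0m95),
  (64, copies 8192 2 cv0m96),
  (128, copies 8192 2 cv0m97),
  (256, copies 8192 2 cv0m98),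
  (512, copies 8192 2 cv0m99),
  (1024, copies 8192 2 cv0m100),
  (2048, copies 8192 2 cv0m101),
  (4096, copies 8192 2 cv0m102),
  (8192, cv0m103)]
noncomputable def cv0s49 : List (ℕ × ℕ) := [(4096, copies 8192 2 cv0m104),
  (2048, copies 8192 2 cv0m105),
  (1024, copies 8192 2 cv0m106),
  (512, copies 8192 2 cv0m107),
  (256, copies 8192 2 cv0m108),
  (128, copies 8192 2 cv0m109),
  (64, copies 8192 2 cv0m110),
  (32, copies 8192 2 cv0m111),
  (16, copies 8192 2 cv0m112),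
  (8, copies 8192 2 cv0m113),
  (4, copies 8192 2 cv0m114),
  (2, copies 8192 2 cv0m115),
  (1, copies 8192 2 cv0m116),
  (2, copies 8192 2 cv0m117),
  (4, copies 8192 2 cv0m118),
  (8, copies 8192 2 cv0m119),
  (16, copies 8192 2 cv0m120),
  (32, copies 8192 2 cv0m121),
  (64, copies 8192 2 cv0m122),
  (128, copies 8192 2 cv0m123),
  (256, copies 8192 2 cv0m124),
  (512, copies 8192 2 cv0m125),
  (1024, copies 8192 2 cv0m126),
  (2048, copies 8192 2 cv0m127),
  (4096, copies 8192 2 cv0m128),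
  (8192, cv0m129)]
noncomputable def cv0s50 : List (ℕ × ℕ) := [(8192, cv0m129),
  (4096, copies 8192 2 cv0m128),
  (2048, copies 8192 2 cv0m127),
  (1024, copies 8192 2 cv0m126),
  (512, copies 8192 2 cv0m125),
  (256, copies 8192 2 cv0m124),
  (128, copies 8192 2 cv0m123),
  (64, copies 8192 2 cv0m122),
  (32, copies 8192 2 cv0m121),
  (16, copies 8192 2 cv0m120),
  (8, copies 8192 2 cv0m119),
  (4, copies 8192 2 cv0m118),
  (2, copies 8192 2 cv0m117),
  (1, copies 8192 2 cv0m116),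
  (2, copies 8192 2 cv0m115),
  (4, copies 8192 2 cv0m114),
  (8, copies 8192 2 cv0m113),
  (16, copies 8192 2 cv0m112),
  (32, copies 8192 2 cv0m111),
  (64, copies 8192 2 cv0m110),
  (128, copies 8192 2 cv0m109),
  (256, copies 8192 2 cv0m108),
  (512, copies 8192 2 cv0m107),
  (1024, copies 8192 2 cv0m106),
  (2048, copies 8192 2 cv0m105),
  (4096, copies 8192 2 cv0m104)]
noncomputable def cv0s51 : List (ℕ × ℕ) := [(4096, copies 8192 2 cv0m130),
  (2048, copies 8192 2 cv0m131),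
  (1024, copies 8192 2 cv0m132),
  (512, copies 8192 2 cv0m133),
  (256, copies 8192 2 cv0m134),
  (128, copies 8192 2 cv0m135),
  (64, copies 8192 2 cv0m136),
  (32, copies 8192 2 cv0m137),
  (16, copies 8192 2 cv0m138),
  (8, copies 8192 2 cv0m139),
  (4, copies 8192 2 cv0m140),
  (2, copies 8192 2 cv0m141),
  (1, copies 8192 2 cv0m142),
  (2, copies 8192 2 cv0m143),
  (4, copies 8192 2 cv0m144),
  (8, copies 8192 2 cv0m145),
  (16, copies 8192 2 cv0m146),
  (32, copies 8192 2 cv0m147),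
  (64, copies 8192 2 cv0m148),
  (128, copies 8192 2 cv0m149),
  (256, copies 8192 2 cv0m150),
  (512, copies 8192 2 cv0m151),
  (1024, copies 8192 2 cv0m152),
  (2048, copies 8192 2 cv0m153),
  (4096, copies 8192 2 cv0m154),
  (8192, cv0m155)]
noncomputable def cv0s52 : List (ℕ × ℕ) := [(4096, copies 8192 2 cv0m156),
  (2048, copies 8192 2 cv0m157),
  (1024, copies 8192 2 cv0m158),
  (512, copies 8192 2 cv0m159),
  (256, copies 8192 2 cv0m160),
  (128, copies 8192 2 cv0m161),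
  (64, copies 8192 2 cv0m162),
  (32, copies 8192 2 cv0m163),
  (16, copies 8192 2 cv0m164),
  (8, copies 8192 2 cv0m165),
  (4, copies 8192 2 cv0m166),
  (2, copies 8192 2 cv0m167),
  (1, copies 8192 2 cv0m168),
  (2, copies 8192 2 cv0m169),
  (4, copies 8192 2 cv0m170),
  (8, copies 8192 2 cv0m171),
  (16, copies 8192 2 cv0m172),
  (32, copies 8192 2 cv0m173),
  (64, copies 8192 2 cv0m174),
  (128, copies 8192 2 cv0m175),
  (256, copies 8192 2 cv0m176),
  (512, copies 8192 2 cv0m177),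
  (1024, copies 8192 2 cv0m178),
  (2048, copies 8192 2 cv0m179),
  (4096, copies 8192 2 cv0m180),
  (8192, cv0m181)]
noncomputable def cv0s53 : List (ℕ × ℕ) := [(4096, copies 8192 2 cv0m182),
  (2048, copies 8192 2 cv0m183),
  (1024, copies 8192 2 cv0m184),
  (512, copies 8192 2 cv0m185),
  (256, copies 8192 2 cv0m186),
  (128, copies 8192 2 cv0m187),
  (64, copies 8192 2 cv0m188),
  (32, copies 8192 2 cv0m189),
  (16, copies 8192 2 cv0m190),
  (8, copies 8192 2 cv0m191),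
  (4, copies 8192 2 cv0m192),
  (2, copies 8192 2 cv0m193),
  (1, copies 8192 2 cv0m194),
  (2, copies 8192 2 cv0m195),
  (4, copies 8192 2 cv0m196),
  (8, copies 8192 2 cv0m197),
  (16, copies 8192 2 cv0m198),
  (32, copies 8192 2 cv0m199),
  (64, copies 8192 2 cv0m200),
  (128, copies 8192 2 cv0m201),
  (256, copies 8192 2 cv0m202),
  (512, copies 8192 2 cv0m203),
  (1024, copies 8192 2 cv0m204),
  (2048, copies 8192 2 cv0m205),
  (4096, copies 8192 2 cv0m206),
  (8192, cv0m207)]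
noncomputable def cv0s54 : List (ℕ × ℕ) := [(8192, cv0m207),
  (4096, copies 8192 2 cv0m206),
  (2048, copies 8192 2 cv0m205),
  (1024, copies 8192 2 cv0m204),
  (512, copies 8192 2 cv0m203),
  (256, copies 8192 2 cv0m202),
  (128, copies 8192 2 cv0m201),
  (64, copies 8192 2 cv0m200),
  (32, copies 8192 2 cv0m199),
  (16, copies 8192 2 cv0m198),
  (8, copies 8192 2 cv0m197),
  (4, copies 8192 2 cv0m196),
  (2, copies 8192 2 cv0m195),
  (1, copies 8192 2 cv0m194),
  (2, copies 8192 2 cv0m193),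
  (4, copies 8192 2 cv0m192),
  (8, copies 8192 2 cv0m191),
  (16, copies 8192 2 cv0m190),
  (32, copies 8192 2 cv0m189),
  (64, copies 8192 2 cv0m188),
  (128, copies 8192 2 cv0m187),
  (256, copies 8192 2 cv0m186),
  (512, copies 8192 2 cv0m185),
  (1024, copies 8192 2 cv0m184),
  (2048, copies 8192 2 cv0m183),
  (4096, copies 8192 2 cv0m182)]
noncomputable def cv0s55 : List (ℕ × ℕ) := [(4096, copies 8192 2 cv0m208),
  (2048, copies 8192 2 cv0m209),
  (1024, copies 8192 2 cv0m210),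
  (512, copies 8192 2 cv0m211),
  (256, copies 8192 2 cv0m212),
  (128, copies 8192 2 cv0m213),
  (64, copies 8192 2 cv0m214),
  (32, copies 8192 2 cv0m215),
  (16, copies 8192 2 cv0m216),
  (8, copies 8192 2 cv0m217),
  (4, copies 8192 2 cv0m218),
  (2, copies 8192 2 cv0m219),
  (1, copies 8192 2 cv0m220),
  (2, copies 8192 2 cv0m221),
  (4, copies 8192 2 cv0m222),
  (8, copies 8192 2 cv0m223),
  (16, copies 8192 2 cv0m224),
  (32, copies 8192 2 cv0m225),
  (64, copies 8192 2 cv0m226),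
  (128, copies 8192 2 cv0m227),
  (256, copies 8192 2 cv0m228),
  (512, copies 8192 2 cv0m229),
  (1024, copies 8192 2 cv0m230),
  (2048, copies 8192 2 cv0m231),
  (4096, copies 8192 2 cv0m232),
  (8192, cv0m233)]
noncomputable def cv0s56 : List (ℕ × ℕ) := [(8192, cv0m233),
  (4096, copies 8192 2 cv0m232),
  (2048, copies 8192 2 cv0m231),
  (1024, copies 8192 2 cv0m230),
  (512, copies 8192 2 cv0m229),
  (256, copies 8192 2 cv0m228),
  (128, copies 8192 2 cv0m227),
  (64, copies 8192 2 cv0m226),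
  (32, copies 8192 2 cv0m225),
  (16, copies 8192 2 cv0m224),
  (8, copies 8192 2 cv0m223),
  (4, copies 8192 2 cv0m222),
  (2, copies 8192 2 cv0m221),
  (1, copies 8192 2 cv0m220),
  (2, copies 8192 2 cv0m219),
  (4, copies 8192 2 cv0m218),
  (8, copies 8192 2 cv0m217),
  (16, copies 8192 2 cv0m216),
  (32, copies 8192 2 cv0m215),
  (64, copies 8192 2 cv0m214),
  (128, copies 8192 2 cv0m213),
  (256, copies 8192 2 cv0m212),
  (512, copies 8192 2 cv0m211),
  (1024, copies 8192 2 cv0m210),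
  (2048, copies 8192 2 cv0m209),
  (4096, copies 8192 2 cv0m208)]
noncomputable def cv0s57 : List (ℕ × ℕ) := [(4096, copies 8192 2 cv0m234),
  (2048, copies 8192 2 cv0m235),
  (1024, copies 8192 2 cv0m236),
  (512, copies 8192 2 cv0m237),
  (256, copies 8192 2 cv0m238),
  (128, copies 8192 2 cv0m239),
  (64, copies 8192 2 cv0m240),
  (32, copies 8192 2 cv0m241),
  (16, copies 8192 2 cv0m242),
  (8, copies 8192 2 cv0m243),
  (4, copies 8192 2 cv0m244),
  (2, copies 8192 2 cv0m245),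
  (1, copies 8192 2 cv0m246),
  (2, copies 8192 2 cv0m247),
  (4, copies 8192 2 cv0m248),
  (8, copies 8192 2 cv0m249),
  (16, copies 8192 2 cv0m250),
  (32, copies 8192 2 cv0m251),
  (64, copies 8192 2 cv0m252),
  (128, copies 8192 2 cv0m253),
  (256, copies 8192 2 cv0m254),
  (512, copies 8192 2 cv0m255),
  (1024, copies 8192 2 cv0m256),
  (2048, copies 8192 2 cv0m257),
  (4096, copies 8192 2 cv0m258),
  (8192, cv0m259)]
noncomputable def cv0s58 : List (ℕ × ℕ) := [(4096, copies 8192 2 cv0m260),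
  (2048, copies 8192 2 cv0m261),
  (1024, copies 8192 2 cv0m262),
  (512, copies 8192 2 cv0m263),
  (256, copies 8192 2 cv0m264),
  (128, copies 8192 2 cv0m265),
  (64, copies 8192 2 cv0m266),
  (32, copies 8192 2 cv0m267),
  (16, copies 8192 2 cv0m268),
  (8, copies 8192 2 cv0m269),
  (4, copies 8192 2 cv0m270),
  (2, copies 8192 2 cv0m271),
  (1, copies 8192 2 cv0m272),
  (2, copies 8192 2 cv0m273),
  (4, copies 8192 2 cv0m274),
  (8, copies 8192 2 cv0m275),
  (16, copies 8192 2 cv0m276),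
  (32, copies 8192 2 cv0m277),
  (64, copies 8192 2 cv0m278),
  (128, copies 8192 2 cv0m279),
  (256, copies 8192 2 cv0m280),
  (512, copies 8192 2 cv0m281),
  (1024, copies 8192 2 cv0m282),
  (2048, copies 8192 2 cv0m283),
  (4096, copies 8192 2 cv0m284),
  (8192, cv0m285)]
noncomputable def cv0s59 : List (ℕ × ℕ) := [(4096, copies 8192 2 cv0m286),
  (2048, copies 8192 2 cv0m287),
  (1024, copies 8192 2 cv0m288),
  (512, copies 8192 2 cv0m289),
  (256, copies 8192 2 cv0m290),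
  (128, copies 8192 2 cv0m291),
  (64, copies 8192 2 cv0m292),
  (32, copies 8192 2 cv0m293),
  (16, copies 8192 2 cv0m294),
  (8, copies 8192 2 cv0m295),
  (4, copies 8192 2 cv0m296),
  (2, copies 8192 2 cv0m297),
  (1, copies 8192 2 cv0m298),
  (2, copies 8192 2 cv0m299),
  (4, copies 8192 2 cv0m300),
  (8, copies 8192 2 cv0m301),
  (16, copies 8192 2 cv0m302),
  (32, copies 8192 2 cv0m303),
  (64, copies 8192 2 cv0m304),
  (128, copies 8192 2 cv0m305),
  (256, copies 8192 2 cv0m306),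
  (512, copies 8192 2 cv0m307),
  (1024, copies 8192 2 cv0m308),
  (2048, copies 8192 2 cv0m309),
  (4096, copies 8192 2 cv0m310),
  (8192, cv0m311)]
noncomputable def cv0 : Mono := ⟨16384, 14, 2, 0, [cv0s0,[],[],[],[],[],[],[],[],[],[],[],[],[],[],[],[],[],[],[],[],[],[],[],[],[],[],[],[],[],[],[],[],[],[],[],[],[],[],[],[],[],[],[],cv0s44,cv0s45,cv0s46,cv0s47,cv0s48,cv0s49,cv0s50,cv0s51,cv0s52,cv0s53,cv0s54,cv0s55,cv0s56,cv0s57,cv0s58,cv0s59], [0,0,0,1,0,0,0,0,0,0,0,0,0,0,0,0,0,1,0,0,0,0,0,0,0,0,0,0,0,1,1,0,0,0,0,0,0,0,1,1,0,0,0,0,0,0,1,0,1,1,1,0,0,0,0,0,1,0,0,0,0,0,0,0,1,1,1,1,0,0,1,1,0,0,1,1,0,0,0,1,1,1,1,1]⟩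

end Cfsg.Agent.Mult.Ru
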